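import Cfsg.Agent.Lib.MathieuEleven.Data
import Cfsg.Agent.Lib.Golay.Mathieu

/-!
Elements of the Mathieu group M11 coded by packed numbers: products of codes, equality checks by
kernel decision, the order of the group, generation by two elements and the subgroups of order 16
and 9.
Main results: `el`, `eq_el`, `ne_el`, `natCard_m11`, `eA_pow`, `closure_eA_eB`, `card_closure_two`,
`card_closure_three`, `mem_pair_form`.
-/

set_option autoImplicit false
open scoped Pointwise
open Cfsg Cfsg.Agent.Golay

namespace Cfsg.Agent.MathieuEleven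

/-- The point `i` moved by a word of codes (the last letter first). -/
def evalW (w : List ℕ) (i : ℕ) : ℕ := w.foldr (fun d j => fn d j) i

/-- `d` codes an element of M11. -/
def okAut (d : ℕ) : Bool := isAut d && imgMask d dodecad0 == dodecad0 && fn d 0 == 0

/-- All letters code elements of M11. -/
def okW (w : List ℕ) : Bool := w.all okAut

/-- Two words act in the same way on the bit indices. -/
def chk (w v : List ℕ) : Bool :=
  okW w && okW v && (List.range 24).all fun i => evalW w i == evalW v i

theorem toPerm_mem {d : ℕ} (h : okAut d = true) : toPerm d ∈ Spor.M11 := by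
  simp only [okAut, Bool.and_eq_true, beq_iff_eq] at h
  refine ⟨⟨toPerm_mem_M24 h.1.1, MulAction.mem_stabilizer_iff.mpr ?_⟩,
    MulAction.mem_stabilizer_iff.mpr ?_⟩
  · rw [← pts_dodecad0, ← pts_imgMask (validPerm_of_isAut h.1.1), h.1.2]
  · show toPerm d (some 0) = some 0
    rw [show (some 0 : GolayPt) = pt 0 from rfl,
      toPerm_pt (validPerm_of_isAut h.1.1) (by norm_num), h.2]

/-- The element of M11 with a given code (trivial when the code is bad). -/
noncomputable def mk (d : ℕ) : ↥Spor.M11 :=
  if h : okAut d = true then ⟨toPerm d, toPerm_mem h⟩ else 1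

/-- The product of a word of codes in M11. -/
noncomputable def el (w : List ℕ) : ↥Spor.M11 := (w.map mk).prod

theorem el_one (d : ℕ) : el [d] = mk d := by simp [el]

theorem el_append (w v : List ℕ) : el (w ++ v) = el w * el v := by simp [el]

theorem el_cons (d : ℕ) (w : List ℕ) : el (d :: w) = mk d * el w := by simp [el]

theorem el_replicate (k d : ℕ) : el (List.replicate k d) = mk d ^ k := by simp [el]

theorem idx_el : ∀ {w : List ℕ}, okW w = true → ∀ p : GolayPt,
    idx ((el w : Equiv.Perm GolayPt) p) = evalW w (idx p)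
  | [], _, p => by simp [el, evalW]
  | d :: w, h, p => by
    simp only [okW, List.all_cons, Bool.and_eq_true] at h
    have hd : isAut d = true := by
      have h1 := h.1
      simp only [okAut, Bool.and_eq_true] at h1
      exact h1.1.1
    rw [el_cons, Subgroup.coe_mul, Equiv.Perm.mul_apply,
      show (mk d : Equiv.Perm GolayPt) = toPerm d by rw [mk, dif_pos h.1],
      idx_toPerm (validPerm_of_isAut hd), idx_el h.2]
    rfl

theorem eq_el {w v : List ℕ} (h : chk w v = true) : el w = el v := by
  simp only [chk, Bool.and_eq_true, List.all_eq_true, beq_iff_eq, List.mem_range] at h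
  refine Subtype.ext (Equiv.ext fun p => idx_injective ?_)
  rw [idx_el h.1.1, idx_el h.1.2]
  exact h.2 _ (idx_lt p)

theorem ne_el {w v : List ℕ} (h : (okW w && okW v) = true) (i : Fin 24)
    (hi : evalW w i ≠ evalW v i) : el w ≠ el v := by
  intro e
  rw [Bool.and_eq_true] at h
  refine hi ?_
  have h1 := idx_el h.1 (pt i.val)
  rw [e, idx_el h.2, idx_pt i.isLt] at h1
  exact h1.symm

theorem natCard_m11 : Nat.card ↥Spor.M11 = 7920 := by
  have h := Golay.natCard_m11 (d := Spor.squareDodecad) (pts_dodecad0 ▸ dodecad0_mem)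
    (p := (some 0 : GolayPt)) (by rw [← pts_dodecad0]; decide +kernel)
  exact h

theorem isSimpleGroup_m11 : IsSimpleGroup ↥Spor.M11 :=
  Golay.isSimpleGroup_m11 (d := Spor.squareDodecad) (pts_dodecad0 ▸ dodecad0_mem)
    (a := (some 0 : GolayPt)) (by rw [← pts_dodecad0]; decide +kernel)

/-- An element of order 11. -/
noncomputable def eA : ↥Spor.M11 := mk ca
/-- An involution. -/
noncomputable def eB : ↥Spor.M11 := mk cb
/-- An element of order 5 normalising `⟨eA⟩`. -/
noncomputable def eN : ↥Spor.M11 := mk cn
/-- An element of order 8. -/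
noncomputable def eR : ↥Spor.M11 := mk cr
/-- An involution with `eS eR eS⁻¹ = eR ^ 3`. -/
noncomputable def eS : ↥Spor.M11 := mk cs
/-- An element of order 3. -/
noncomputable def eX : ↥Spor.M11 := mk cx
/-- An element of order 3 commuting with `eX`. -/
noncomputable def eY : ↥Spor.M11 := mk cy
/-- An involution inverting `eX` and centralising `eY`. -/
noncomputable def eV : ↥Spor.M11 := mk cv

theorem orderOf_mk {q d : ℕ} (hq : q.Prime) (h1 : chk (List.replicate q d) [] = true)
    (i : Fin 24) (h2 : evalW [d] i ≠ evalW [] i) : orderOf (mk d) = q := by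
  have := Fact.mk hq
  refine orderOf_eq_prime ?_ ?_
  · rw [← el_replicate, eq_el h1]; rfl
  · have hok : okW [d] = true := by
      have h := (Bool.and_eq_true_iff.mp (Bool.and_eq_true_iff.mp h1).1).1
      obtain ⟨k, rfl⟩ := Nat.exists_eq_succ_of_ne_zero hq.ne_zero
      simp only [okW, List.replicate_succ, List.all_cons, Bool.and_eq_true] at h
      simp [okW, h.1]
    have := ne_el (w := [d]) (v := []) (by rw [hok]; rfl) i h2
    rwa [el_one] at this

theorem orderOf_eA : orderOf eA = 11 :=
  orderOf_mk (by norm_num) (by decide +kernel) 1 (by decide +kernel)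

theorem orderOf_eB : orderOf eB = 2 :=
  orderOf_mk (by norm_num) (by decide +kernel) 4 (by decide +kernel)

theorem orderOf_eN : orderOf eN = 5 :=
  orderOf_mk (by norm_num) (by decide +kernel) 2 (by decide +kernel)

theorem eR_pow_eight : eR ^ 8 = 1 := by
  rw [eR, ← el_replicate, eq_el (w := List.replicate 8 cr) (v := []) (by decide +kernel)]; rfl

theorem eS_sq : eS ^ 2 = 1 := by
  rw [eS, ← el_replicate, eq_el (w := List.replicate 2 cs) (v := []) (by decide +kernel)]; rfl

theorem eX_cube : eX ^ 3 = 1 := by
  rw [eX, ← el_replicate, eq_el (w := List.replicate 3 cx) (v := []) (by decide +kernel)]; rfl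

theorem eY_cube : eY ^ 3 = 1 := by
  rw [eY, ← el_replicate, eq_el (w := List.replicate 3 cy) (v := []) (by decide +kernel)]; rfl

theorem eS_mul_eR : eS * eR = eR ^ 3 * eS := by
  rw [eS, eR, ← el_replicate, ← el_one cr, ← el_one cs, ← el_append, ← el_append]
  exact eq_el (by decide +kernel)

theorem eY_mul_eX : eY * eX = eX * eY := by
  rw [eY, eX, ← el_one cx, ← el_one cy, ← el_append, ← el_append]
  exact eq_el (by decide +kernel)

theorem eV_mul_eX : eV * eX = eX ^ 2 * eV := by
  rw [eV, eX, ← el_replicate, ← el_one cx, ← el_one cv, ← el_append, ← el_append]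
  exact eq_el (by decide +kernel)

theorem eV_mul_eY : eV * eY = eY * eV := by
  rw [eV, eY, ← el_one cy, ← el_one cv, ← el_append, ← el_append]
  exact eq_el (by decide +kernel)

theorem eN_mul_eA : eN * eA = eA ^ 3 * eN := by
  rw [eN, eA, ← el_replicate, ← el_one ca, ← el_one cn, ← el_append, ← el_append]
  exact eq_el (by decide +kernel)

/-- If `s r = r ^ m s` then the subgroup generated by `r`, `s` consists of the `r ^ i * s ^ k`. -/
theorem mem_pair_form {H : Type*} [Group H] [Finite H] {r s : H} {m p q : ℕ} (hp : 0 < p)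
    (hq : 0 < q) (hr : r ^ p = 1) (hs : s ^ q = 1) (hrel : s * r = r ^ m * s) {h : H}
    (hh : h ∈ Subgroup.closure {r, s}) : ∃ i < p, ∃ k < q, h = r ^ i * s ^ k := by
  have red : ∀ i k : ℕ, ∃ i' < p, ∃ k' < q, r ^ i * s ^ k = r ^ i' * s ^ k' := fun i k =>
    ⟨i % p, Nat.mod_lt _ hp, k % q, Nat.mod_lt _ hq,
      by rw [← pow_eq_pow_mod i hr, ← pow_eq_pow_mod k hs]⟩
  have push : ∀ k : ℕ, s ^ k * r = r ^ m ^ k * s ^ k := by
    intro k
    induction k with
    | zero => simp
    | succ k ih =>
      have hstep : ∀ j : ℕ, s * r ^ j = r ^ (m * j) * s := by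
        intro j
        induction j with
        | zero => simp
        | succ j ihj =>
          rw [pow_succ, ← mul_assoc, ihj, mul_assoc, hrel, ← mul_assoc, ← pow_add, Nat.mul_succ]
      rw [pow_succ' s, mul_assoc, ih, ← mul_assoc, hstep, mul_assoc, ← pow_succ']
  have h1 : h ∈ Submonoid.closure ({r, s} : Set H) := by
    rw [← Subgroup.closure_toSubmonoid_of_finite (G := H)]; exact hh
  induction h1 using Submonoid.closure_induction_right with
  | one => exact ⟨0, hp, 0, hq, by simp⟩
  | mul_right x hx y hy ih =>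
    obtain ⟨i, -, k, -, rfl⟩ := ih ((Subgroup.le_closure_toSubmonoid _) hx)
    rcases hy with rfl | rfl
    · rw [mul_assoc, push, ← mul_assoc, ← pow_add]; exact red _ _
    · rw [mul_assoc, ← pow_succ]; exact red _ _

theorem card_closure_of_rel {H : Type*} [Group H] [Finite H] {r s : H} {m p q : ℕ} (hp : 0 < p)
    (hq : 0 < q) (hr : r ^ p = 1) (hs : s ^ q = 1) (hrel : s * r = r ^ m * s)
    (hinj : ∀ u v : Fin p × Fin q,
      r ^ (u.1 : ℕ) * s ^ (u.2 : ℕ) = r ^ (v.1 : ℕ) * s ^ (v.2 : ℕ) → u = v) :
    Nat.card (Subgroup.closure {r, s}) = p * q := by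
  have hmr : r ∈ Subgroup.closure {r, s} := Subgroup.subset_closure (Set.mem_insert r {s})
  have hms : s ∈ Subgroup.closure {r, s} :=
    Subgroup.subset_closure (Set.mem_insert_of_mem r (Set.mem_singleton s))
  let f : Fin p × Fin q → Subgroup.closure {r, s} := fun u =>
    ⟨r ^ (u.1 : ℕ) * s ^ (u.2 : ℕ), mul_mem (pow_mem hmr _) (pow_mem hms _)⟩
  have hf : Function.Bijective f := by
    refine ⟨fun u v e => hinj u v (congrArg Subtype.val e), fun x => ?_⟩
    obtain ⟨i, hi, k, hk, e⟩ := mem_pair_form hp hq hr hs hrel x.2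
    exact ⟨(⟨i, hi⟩, ⟨k, hk⟩), Subtype.ext e.symm⟩
  rw [← Nat.card_eq_of_bijective f hf, Nat.card_prod, Nat.card_fin, Nat.card_fin]

theorem card_closure_pair {c d m p q : ℕ} (hp : 0 < p) (hq : 0 < q)
    (hr : mk c ^ p = 1) (hs : mk d ^ q = 1) (hrel : mk d * mk c = mk c ^ m * mk d)
    (hok : (okAut c && okAut d) = true)
    (hne : ∀ u v : Fin p × Fin q, u ≠ v → ∃ i : Fin 24,
      evalW (List.replicate u.1 c ++ List.replicate u.2 d) i ≠
        evalW (List.replicate v.1 c ++ List.replicate v.2 d) i) :
    Nat.card (Subgroup.closure {mk c, mk d}) = p * q := by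
  refine card_closure_of_rel hp hq hr hs hrel fun u v e => by_contra fun h => ?_
  obtain ⟨i, hi⟩ := hne u v h
  refine ne_el ?_ i hi ?_
  · simp only [okW, List.all_append, List.all_replicate, Bool.and_eq_true] at hok ⊢
    simp [hok.1, hok.2]
  · rw [el_append, el_append, el_replicate, el_replicate, el_replicate, el_replicate]
    exact e

theorem card_closure_two : Nat.card (Subgroup.closure {eR, eS}) = 16 :=
  card_closure_pair (p := 8) (q := 2) (by norm_num) (by norm_num) eR_pow_eight eS_sq eS_mul_eR
    (by decide +kernel) (by decide +kernel)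

theorem card_closure_three : Nat.card (Subgroup.closure {eX, eY}) = 9 :=
  card_closure_pair (p := 3) (q := 3) (m := 1) (by norm_num) (by norm_num) eX_cube eY_cube
    (by rw [pow_one]; exact eY_mul_eX) (by decide +kernel) (by decide +kernel)

theorem el_mem_closure {w : List ℕ} (h : (w.all fun d => d == ca || d == cb) = true) :
    el w ∈ Subgroup.closure {eA, eB} := by
  refine list_prod_mem fun x hx => ?_
  obtain ⟨d, hd, rfl⟩ := List.mem_map.mp hx
  have := List.all_eq_true.mp h d hd
  simp only [Bool.or_eq_true, beq_iff_eq] at this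
  rcases this with rfl | rfl
  · exact Subgroup.subset_closure (Set.mem_insert _ _)
  · exact Subgroup.subset_closure (Set.mem_insert_of_mem _ rfl)

/-- M11 is generated by `eA` and `eB`. -/
theorem closure_eA_eB : Subgroup.closure {eA, eB} = ⊤ := by
  set H := Subgroup.closure {eA, eB}
  have mem : ∀ (d : ℕ) (w : List ℕ), chk [d] w = true →
      (w.all fun e => e == ca || e == cb) = true → mk d ∈ H := fun d w h1 h2 => by
    rw [← el_one, eq_el h1]; exact el_mem_closure h2
  have hN : eN ∈ H := mem cn wordN (by decide +kernel) (by decide +kernel)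
  have hR : eR ∈ H := mem cr wordR (by decide +kernel) (by decide +kernel)
  have hS : eS ∈ H := mem cs wordS (by decide +kernel) (by decide +kernel)
  have hX : eX ∈ H := mem cx wordX (by decide +kernel) (by decide +kernel)
  have hY : eY ∈ H := mem cy wordY (by decide +kernel) (by decide +kernel)
  have hpair : ∀ x y, x ∈ H → y ∈ H → Subgroup.closure {x, y} ≤ H := fun x y hx hy =>
    (Subgroup.closure_le _).mpr (by rintro z (rfl | rfl) <;> assumption)
  have h16 : 16 ∣ Nat.card H := card_closure_two ▸ Subgroup.card_dvd_of_le (hpair _ _ hR hS)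
  have h9 : 9 ∣ Nat.card H := card_closure_three ▸ Subgroup.card_dvd_of_le (hpair _ _ hX hY)
  have h11 : 11 ∣ Nat.card H := orderOf_eA ▸
    H.orderOf_dvd_natCard (Subgroup.subset_closure (Set.mem_insert _ _))
  have h5 : 5 ∣ Nat.card H := orderOf_eN ▸ H.orderOf_dvd_natCard hN
  have hd : 7920 ∣ Nat.card H :=
    Nat.Coprime.mul_dvd_of_dvd_of_dvd (m := 16 * 9 * 5) (n := 11) (by norm_num)
      (Nat.Coprime.mul_dvd_of_dvd_of_dvd (by norm_num)
        (Nat.Coprime.mul_dvd_of_dvd_of_dvd (by norm_num) h16 h9) h5) h11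
  refine Subgroup.eq_top_of_le_card H ?_
  rw [natCard_m11]
  exact Nat.le_of_dvd Nat.card_pos hd

end Cfsg.Agent.MathieuEleven
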