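import Cfsg.Agent.Lib.MathieuEleven.Basic

/-!
Every automorphism of M11 is inner.
Method: move the image of `eA` to `eA` or `eA⁻¹` by conjugation, note that all involutions are
coded in the list `invols`, and rule out all but eleven images of `eB` with one relator.
Main results: `mem_invols`, `exists_conj_eq`, `natCard_out_m11`.
-/

set_option autoImplicit false
open Cfsg Cfsg.Agent.Golay

namespace Cfsg.Agent.MathieuEleven

/-- The list `invols` is closed under conjugation by a coded element. -/
def closedBy (g : ℕ) : Bool :=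
  invols.all fun c => invols.any fun c' =>
    (List.range 24).all fun i => evalW [g, c] i == evalW [c', g] i

theorem invols_ok : (invols.all okAut) = true := by decide +kernel

theorem conj_mem_invols {g : ℕ} (hg : okAut g = true) (h : closedBy g = true) {c : ℕ}
    (hc : c ∈ invols) : ∃ c' ∈ invols, mk g * mk c * (mk g)⁻¹ = mk c' := by
  obtain ⟨c', hc', h'⟩ := List.any_eq_true.1 (List.all_eq_true.1 h c hc)
  refine ⟨c', hc', ?_⟩
  have e : el [g, c] = el [c', g] := eq_el (by
    simp only [chk, okW, List.all_cons, List.all_nil, Bool.and_eq_true, Bool.and_true]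
    exact ⟨⟨⟨hg, List.all_eq_true.1 invols_ok c hc⟩, List.all_eq_true.1 invols_ok c' hc', hg⟩, h'⟩)
  rw [el_cons, el_one, el_cons, el_one] at e
  rw [e, mul_inv_cancel_right]

theorem conj_eB_mem (h : ↥Spor.M11) : ∃ c ∈ invols, h * eB * h⁻¹ = mk c := by
  have hh : h ∈ Submonoid.closure ({eA, eB} : Set ↥Spor.M11) := by
    rw [← Subgroup.closure_toSubmonoid_of_finite, closure_eA_eB]; trivial
  suffices ∀ c ∈ invols, ∃ c' ∈ invols, h * mk c * h⁻¹ = mk c' from
    this cb (by decide +kernel)
  induction hh using Submonoid.closure_induction with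
  | mem x hx =>
    intro c hc
    rcases hx with rfl | rfl
    · exact conj_mem_invols (g := ca) (by decide +kernel) (by decide +kernel) hc
    · exact conj_mem_invols (g := cb) (by decide +kernel) (by decide +kernel) hc
  | one => exact fun c hc => ⟨c, hc, by simp⟩
  | mul x y _ _ ihx ihy =>
    intro c hc
    obtain ⟨c', hc', e'⟩ := ihy c hc
    obtain ⟨c'', hc'', e''⟩ := ihx c' hc'
    exact ⟨c'', hc'', by rw [← e'', ← e']; group⟩

/-- The involutions of `⟨eR, eS⟩` are conjugate to `eB`. -/
def pairCheck : Bool :=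
  (List.range 8).all fun i => (List.range 2).all fun k =>
    !chk (List.replicate i cr ++ List.replicate k cs ++ (List.replicate i cr ++ List.replicate k cs)) []
      || chk (List.replicate i cr ++ List.replicate k cs) []
      || conjs.any fun g => chk [g, cb] (List.replicate i cr ++ List.replicate k cs ++ [g])

theorem chk_iff {w v : List ℕ} (hw : okW w = true) (hv : okW v = true) (h : el w = el v) :
    chk w v = true := by
  simp only [chk, hw, hv, Bool.true_and, List.all_eq_true, List.mem_range, beq_iff_eq]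
  intro i hi
  have h1 := idx_el hw (pt i)
  rw [h, idx_el hv, idx_pt hi] at h1
  exact h1.symm

theorem mem_invols {x : ↥Spor.M11} (hx : orderOf x = 2) : ∃ c ∈ invols, x = mk c := by
  have := Fact.mk Nat.prime_two
  have hP : IsPGroup 2 (Subgroup.closure {eR, eS}) := IsPGroup.of_card (n := 4) card_closure_two
  have hindex : ¬ 2 ∣ (Subgroup.closure {eR, eS}).index := by
    have h := (Subgroup.closure {eR, eS}).card_mul_index
    rw [card_closure_two, natCard_m11] at h
    omega
  obtain ⟨Q, hQ⟩ := (IsPGroup.of_card (n := 1) (p := 2)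
    (show Nat.card (Subgroup.zpowers x) = 2 ^ 1 by rw [Nat.card_zpowers, hx, pow_one])).exists_le_sylow
  obtain ⟨g, hg⟩ := MulAction.exists_smul_eq ↥Spor.M11 Q (hP.toSylow hindex)
  have hy : g * x * g⁻¹ ∈ Subgroup.closure {eR, eS} := by
    have : g * x * g⁻¹ ∈ ((g • Q : Sylow 2 ↥Spor.M11) : Subgroup ↥Spor.M11) :=
      Subgroup.smul_mem_pointwise_smul x (MulAut.conj g) _ (hQ (Subgroup.mem_zpowers x))
    rwa [hg] at this
  obtain ⟨i, hi, k, hk, e⟩ :=
    mem_pair_form (p := 8) (q := 2) (by norm_num) (by norm_num) eR_pow_eight eS_sq eS_mul_eR hy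
  set w := List.replicate i cr ++ List.replicate k cs with hwdef
  have hw : el w = g * x * g⁻¹ := by
    rw [hwdef, el_append, el_replicate, el_replicate]; exact e.symm
  have hwok : okW w = true := by
    simp [hwdef, okW, List.all_append, List.all_replicate,
      (by decide +kernel : okAut cr = true), (by decide +kernel : okAut cs = true)]
  have hc : pairCheck = true := by decide +kernel
  have hc' := List.all_eq_true.1 (List.all_eq_true.1 hc i (List.mem_range.2 hi)) k (List.mem_range.2 hk)
  rw [← hwdef] at hc'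
  simp only [Bool.or_eq_true, Bool.not_eq_true'] at hc'
  have hx2 : x * x = 1 := by rw [← pow_two, ← hx, pow_orderOf_eq_one]
  rcases hc' with (h | h) | h
  · have h' : chk (w ++ w) [] = true := chk_iff
      (by simp [okW, List.all_append] at hwok ⊢; exact hwok) rfl
      (by rw [el_append, hw, show el ([] : List ℕ) = 1 from rfl,
        show g * x * g⁻¹ * (g * x * g⁻¹) = g * (x * x) * g⁻¹ by group, hx2]; group)
    rw [h'] at h; simp at h
  · have h' := eq_el h
    rw [hw, show el ([] : List ℕ) = 1 from rfl, conj_eq_one_iff] at h'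
    rw [h', orderOf_one] at hx; simp at hx
  · obtain ⟨f, -, hf⟩ := List.any_eq_true.1 h
    have h' := eq_el hf
    rw [el_cons, el_one, el_append, el_one, hw] at h'
    obtain ⟨c, hc, hce⟩ := conj_eB_mem (g⁻¹ * mk f)
    refine ⟨c, hc, ?_⟩
    rw [← hce, eB, show g⁻¹ * mk f * mk cb * (g⁻¹ * mk f)⁻¹ = g⁻¹ * (mk f * mk cb) * (mk f)⁻¹ * g
      by group, h']
    group

/-- The relator with the given letters substituted. -/
def relWord (A c : ℕ) : List ℕ := relator.map fun t => cond t c A

/-- Every candidate image of `(eA, eB)` breaks the relator or is a conjugate of it. -/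
def candCheck : Bool :=
  invols.all fun c =>
    !chk (relWord cai c) [] &&
      (!chk (relWord ca c) [] ||
        (List.range 11).any fun i => chk (List.replicate i ca ++ [cb]) (c :: List.replicate i ca))

theorem map_relWord (α : MulAut ↥Spor.M11) {A c : ℕ} (ha : α eA = mk A) (hb : α eB = mk c) :
    α (el (relWord ca cb)) = el (relWord A c) := by
  rw [el, el, map_list_prod, relWord, relWord, List.map_map, List.map_map, List.map_map]
  congr 1
  refine List.map_congr_left fun t _ => ?_
  cases t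
  · exact ha
  · exact hb

theorem exists_conj_eq (α : MulAut ↥Spor.M11) : ∃ g, MulAut.conj g = α := by
  have := Fact.mk (show Nat.Prime 11 by norm_num)
  have hcard : Nat.card (Subgroup.zpowers eA) = 11 := by rw [Nat.card_zpowers, orderOf_eA]
  have hP : IsPGroup 11 (Subgroup.zpowers eA) := IsPGroup.of_card (n := 1) (by rw [hcard, pow_one])
  have hindex : ¬ 11 ∣ (Subgroup.zpowers eA).index := by
    have h := (Subgroup.zpowers eA).card_mul_index
    rw [hcard, natCard_m11] at h
    omega
  have hα : orderOf (α eA) = 11 := by rw [MulEquiv.orderOf_eq, orderOf_eA]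
  obtain ⟨Q, hQ⟩ := (IsPGroup.of_card (n := 1) (p := 11)
    (show Nat.card (Subgroup.zpowers (α eA)) = 11 ^ 1 by
      rw [Nat.card_zpowers, hα, pow_one])).exists_le_sylow
  obtain ⟨g, hg⟩ := MulAction.exists_smul_eq ↥Spor.M11 Q (hP.toSylow hindex)
  have hmem : g * α eA * g⁻¹ ∈ Subgroup.zpowers eA := by
    have : g * α eA * g⁻¹ ∈ ((g • Q : Sylow 11 ↥Spor.M11) : Subgroup ↥Spor.M11) :=
      Subgroup.smul_mem_pointwise_smul (α eA) (MulAut.conj g) _ (hQ (Subgroup.mem_zpowers _))
    rwa [hg] at this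
  rw [← mem_powers_iff_mem_zpowers, Submonoid.mem_powers_iff] at hmem
  obtain ⟨k₀, hk₀⟩ := hmem
  rw [← pow_mod_orderOf, orderOf_eA] at hk₀
  have hk0 : k₀ % 11 ≠ 0 := fun h => by
    rw [h, pow_zero, eq_comm, conj_eq_one_iff] at hk₀
    rw [hk₀, orderOf_one] at hα
    simp at hα
  obtain ⟨i, hi⟩ : ∃ i : Fin 5, k₀ % 11 * 3 ^ (i : ℕ) % 11 = 1 ∨ k₀ % 11 * 3 ^ (i : ℕ) % 11 = 10 :=
    (by decide +kernel : ∀ k : ℕ, k < 11 → k ≠ 0 → ∃ i : Fin 5,
      k * 3 ^ (i : ℕ) % 11 = 1 ∨ k * 3 ^ (i : ℕ) % 11 = 10) _ (Nat.mod_lt _ (by norm_num)) hk0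
  have hN : eN * eA * eN⁻¹ = eA ^ 3 := by rw [eN_mul_eA, mul_inv_cancel_right]
  have hNi : ∀ j k : ℕ, eN ^ j * eA ^ k * (eN ^ j)⁻¹ = eA ^ (k * 3 ^ j) := by
    intro j k
    induction j generalizing k with
    | zero => simp
    | succ j ih =>
      rw [pow_succ, show eN ^ j * eN * eA ^ k * (eN ^ j * eN)⁻¹ =
        eN ^ j * (eN * eA ^ k * eN⁻¹) * (eN ^ j)⁻¹ by group, ← conj_pow, hN, ← pow_mul, ih]
      ring_nf
  -- `β` is `α` followed by a conjugation
  set h := eN ^ (i : ℕ) * g with hh
  obtain ⟨β, hβ⟩ : ∃ β : MulAut ↥Spor.M11, β = MulAut.conj h * α := ⟨_, rfl⟩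
  have hβA : β eA = mk ca ∨ β eA = mk cai := by
    have e : β eA = eA ^ (k₀ % 11 * 3 ^ (i : ℕ) % 11) := by
      rw [hβ, MulAut.mul_apply, MulAut.conj_apply, hh,
        show eN ^ (i : ℕ) * g * α eA * (eN ^ (i : ℕ) * g)⁻¹ =
          eN ^ (i : ℕ) * (g * α eA * g⁻¹) * (eN ^ (i : ℕ))⁻¹ by group, ← hk₀, hNi]
      conv_lhs => rw [← pow_mod_orderOf, orderOf_eA]
    rcases hi with hi | hi
    · exact Or.inl (by rw [e, hi, pow_one]; rfl)
    · refine Or.inr ?_
      rw [e, hi, eA, ← el_replicate, ← el_one cai]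
      exact eq_el (by decide +kernel)
  obtain ⟨c, hc, hβB⟩ := mem_invols (x := β eB) (by rw [MulEquiv.orderOf_eq, orderOf_eB])
  have hrel : el (relWord ca cb) = 1 := eq_el (w := relWord ca cb) (v := []) (by decide +kernel)
  have hcand : candCheck = true := by decide +kernel
  have hcand' := List.all_eq_true.1 hcand c hc
  simp only [Bool.and_eq_true, Bool.or_eq_true, Bool.not_eq_true'] at hcand'
  have hkill : ∀ A, okAut A = true → β eA = mk A → chk (relWord A c) [] = true := fun A hA hA' =>
    chk_iff (by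
      simp only [okW, relWord, List.all_map, List.all_eq_true]
      rintro (_ | _) -
      · exact hA
      · exact List.all_eq_true.1 invols_ok c hc) rfl
      (by rw [← map_relWord β hA' hβB, hrel, map_one]; rfl)
  rcases hβA with hβA | hβA
  swap
  · rw [hkill cai (by decide +kernel) hβA] at hcand'
    simp at hcand'
  rw [hkill ca (by decide +kernel) hβA] at hcand'
  obtain ⟨j, -, hj⟩ := List.any_eq_true.1 (hcand'.2.resolve_left (by simp))
  have hj' := eq_el hj
  rw [el_append, el_one, el_cons, el_replicate, ← hβB] at hj'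
  have hβ' : β = MulAut.conj (eA ^ j) := by
    refine MulEquiv.toMonoidHom_injective (MonoidHom.eq_of_eqOn_dense closure_eA_eB ?_)
    rintro x (rfl | rfl)
    · show β eA = eA ^ j * eA * (eA ^ j)⁻¹
      rw [(Commute.self_pow eA j).symm.eq, mul_inv_cancel_right]; exact hβA
    · show β eB = eA ^ j * eB * (eA ^ j)⁻¹
      exact eq_mul_inv_of_mul_eq hj'.symm
  exact ⟨h⁻¹ * eA ^ j, by rw [map_mul, map_inv, ← hβ', hβ, inv_mul_cancel_left]⟩

theorem natCard_out_m11 : Nat.card (Cfsg.Out ↥Spor.M11) = 1 := by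
  have h : Cfsg.Inn ↥Spor.M11 = ⊤ := eq_top_iff.2 fun α _ => exists_conj_eq α
  show Nat.card (MulAut ↥Spor.M11 ⧸ Cfsg.Inn ↥Spor.M11) = 1
  rw [← Subgroup.index_eq_card, h, Subgroup.index_top]

end Cfsg.Agent.MathieuEleven
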