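import Cfsg.Agent.Lib.MathieuEleven.Basic
import Cfsg.Agent.Lib.Schur.Trivial

/-!
The Schur multiplier of M11 is trivial.
Main result: `hasCyclicSchurMultiplier_m11`.
-/

set_option autoImplicit false
open Cfsg

namespace Cfsg.Agent.MathieuEleven

theorem not_dvd_index_of_card {p n : ℕ} (H : Subgroup ↥Spor.M11) (hn : Nat.card H = n)
    (hp : ¬ p ∣ 7920 / n) : ¬ p ∣ H.index := by
  have h := H.card_mul_index
  rw [hn, natCard_m11] at h
  have hn0 : 0 < n := hn ▸ Nat.card_pos
  rwa [← h, Nat.mul_div_cancel_left _ hn0] at hp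

theorem orderOf_eR : orderOf eR = 8 := by
  have := Fact.mk Nat.prime_two
  refine orderOf_eq_prime_pow (p := 2) (n := 2) (fun h => ?_) eR_pow_eight
  refine ne_el (w := List.replicate 4 cr) (v := []) (by decide +kernel) 4 (by decide +kernel) ?_
  rw [el_replicate]
  exact h

theorem hasCyclicSchurMultiplier_m11 : Cfsg.HasCyclicSchurMultiplier ↥Spor.M11 1 := by
  refine Schur.hasCyclicSchurMultiplier_one fun Γ _ _ σ hσ p hp k z hz hord => ?_
  by_cases h2 : p = 2
  · subst h2
    refine Schur.eq_one_of_semidihedral hσ hp eR eS orderOf_eR eS_sq ?_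
      (not_dvd_index_of_card _ card_closure_two (by norm_num)) hz hord
    rw [eS_mul_eR, mul_inv_cancel_right]
  by_cases h3 : p = 3
  · subst h3
    refine Schur.eq_one_of_inverted_pair hσ hp h2 eX eY eV eY_mul_eX.symm eX_cube ?_ ?_
      (not_dvd_index_of_card _ card_closure_three (by norm_num)) hz hord
    · rw [eV_mul_eX, mul_inv_cancel_right]
      exact eq_inv_of_mul_eq_one_left (by rw [← pow_succ]; exact eX_cube)
    · rw [eV_mul_eY, mul_inv_cancel_right]
  by_cases h5 : p = 5
  · subst h5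
    exact Schur.eq_one_of_cyclic hσ hp eN
      (not_dvd_index_of_card _ (by rw [Nat.card_zpowers, orderOf_eN]) (by norm_num)) hz hord
  by_cases h11 : p = 11
  · subst h11
    exact Schur.eq_one_of_cyclic hσ hp eA
      (not_dvd_index_of_card _ (by rw [Nat.card_zpowers, orderOf_eA]) (by norm_num)) hz hord
  refine Schur.eq_one_of_cyclic hσ hp 1 (not_dvd_index_of_card _ (n := 1) ?_ ?_) hz hord
  · rw [Subgroup.zpowers_one_eq_bot, Subgroup.card_bot]
  · intro h
    have : p ∣ 2 ^ 4 * 3 ^ 2 * 5 * 11 := by simpa using h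
    rcases hp.dvd_mul.1 this with h | h
    · rcases hp.dvd_mul.1 h with h | h
      · rcases hp.dvd_mul.1 h with h | h
        · exact h2 ((Nat.prime_dvd_prime_iff_eq hp Nat.prime_two).1 (hp.dvd_of_dvd_pow h))
        · exact h3 ((Nat.prime_dvd_prime_iff_eq hp Nat.prime_three).1 (hp.dvd_of_dvd_pow h))
      · exact h5 ((Nat.prime_dvd_prime_iff_eq hp (by norm_num)).1 h)
    · exact h11 ((Nat.prime_dvd_prime_iff_eq hp (by norm_num)).1 h)

end Cfsg.Agent.MathieuEleven
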